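import Mathlib
import Cfsg.Agent.FUS.HK.Defs

/-!
Two opposite blocks with independent centralizers.
-/

set_option autoImplicit false
set_option linter.unusedSectionVars false
open Cfsg Subgroup CL.Th CL.MSS CL.Push CL.BHS CL.GC
open scoped commutatorElement MatrixGroups

namespace CL.Hen

variable {G : Type*} [Group G] [Finite G] {F F' : Type} [Field F] [Fintype F] [CharP F 2]
  [Field F'] [Fintype F'] [CharP F' 2] {B E E' W W' : Subgroup G}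
  {ρ : G → SL(2, F)} {ψ : G → Fin 2 → F} {x y z : G → F}
  {ρ' : G → SL(2, F')} {ψ' : G → Fin 2 → F'} {x' y' z' : G → F'}

structure DP (B E E' W W' : Subgroup G) (ρ : G → SL(2, F)) (ψ : G → Fin 2 → F)
    (x y z : G → F) (ρ' : G → SL(2, F')) (ψ' : G → Fin 2 → F') (x' y' z' : G → F') : Prop where
  p : PB B E W W' ρ ψ x y z
  p' : PB B E' W' W ρ' ψ' x' y' z'
  dd : B ⊓ centralizer (E : Set G) ⊓ (B ⊓ centralizer (E' : Set G)) = ⊥

namespace DP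
variable (h : DP B E E' W W' ρ ψ x y z ρ' ψ' x' y' z')
include h

local notation "𝐀" => B ⊓ centralizer (W : Set G)
local notation "𝐀'" => B ⊓ centralizer (W' : Set G)
local notation "𝐃" => B ⊓ centralizer (E : Set G)
local notation "𝐃'" => B ⊓ centralizer (E' : Set G)

theorem symm : DP B E' E W' W ρ' ψ' x' y' z' ρ ψ x y z := ⟨h.p', h.p, (inf_comm _ _).trans h.dd⟩

theorem card_eq : Nat.card F' = Nat.card F := h.p'.hs.symm.idxQ.symm.trans h.p.hs.idxQ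

theorem F0' : h.p'.hs.F0 = h.p.hs.F0 := by
  rw [h.p'.hs.F0_eq', h.p.hs.F0_eq', inf_right_comm]

theorem eq_one {d : G} (h1 : d ∈ 𝐃) (h2 : d ∈ 𝐃') : d = 1 := mem_bot.1 (h.dd.le ⟨h1, h2⟩)

theorem ext {a b : G} (ha : a ∈ h.p.hs.F0) (hb : b ∈ h.p.hs.F0) (e1 : z a = z b)
    (e2 : z' a = z' b) : a = b :=
  inv_mul_eq_one.1 (h.eq_one ((h.p.hs.z_eq ha hb).1 e1)
    ((h.p'.hs.z_eq (h.F0'.ge ha) (h.F0'.ge hb)).1 e2))

theorem F0_cent : h.p.hs.F0 ≤ centralizer (B : Set G) := fun _ ha _ hb =>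
  (commutatorElement_eq_one_iff_mul_comm.1 (h.eq_one (h.p.hs.comm_D ha hb)
    (h.p'.hs.comm_D (h.F0'.ge ha) hb))).symm

theorem ctr_eq : B ⊓ centralizer (B : Set G) = h.p.hs.F0 :=
  le_antisymm h.p.hs.ctr_le (le_inf h.p.hs.F0_le h.F0_cent)

theorem inf_eq : 𝐀 ⊓ 𝐀' = h.p.hs.F0 := by
  rw [h.p.hs.F0_eq', ← inf_inf_distrib_left, inf_assoc]

theorem sq_iff {b : G} (hb : b ∈ B) : b * b ∈ 𝐃 ↔ b ∈ 𝐀 ∨ b ∈ 𝐀' := by
  simp [h.p.hs.sq_D hb, h.p.hs.x0 hb, h.p.hs.y0 hb, hb, or_comm]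

theorem sq_iff' {b : G} (hb : b ∈ B) : b * b ∈ 𝐃' ↔ b ∈ 𝐀 ∨ b ∈ 𝐀' := by
  simp [h.p'.hs.sq_D hb, h.p'.hs.x0 hb, h.p'.hs.y0 hb, hb]

theorem sq_one {b : G} (hb : b ∈ 𝐀 ∨ b ∈ 𝐀') : b * b = 1 :=
  have m := hb.elim (·.1) (·.1)
  h.eq_one ((h.sq_iff m).2 hb) ((h.sq_iff' m).2 hb)

theorem pair : AB.Pair B 𝐀 𝐀' where
  sup := le_antisymm (sup_le inf_le_left inf_le_left) (by
    rw [h.p.hs.Q_eq, h.p.hs.symm.Q_eq, ← sup_sup_distrib_right, h.p.hs.sup])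
  eA := AB.ea_of_sq fun _ e => h.sq_one (.inl e)
  eB := AB.ea_of_sq fun _ e => h.sq_one (.inr e)
  nle e := h.p'.hs.not_le ((le_inf h.p.WB (AB.ea_le_centralizer h.p.eW)).trans (e.trans inf_le_right))
  nle' e := h.p.hs.not_le ((le_inf h.p'.WB (AB.ea_le_centralizer h.p'.eW)).trans
    (e.trans inf_le_right))
  inv _ hs e := (h.sq_iff hs).1 (e ▸ one_mem _)

theorem WA : W ≤ 𝐀 := le_inf h.p.WB (AB.ea_le_centralizer h.p.eW)

theorem WA' : W' ≤ 𝐀' := le_inf h.p'.WB (AB.ea_le_centralizer h.p'.eW)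

theorem A_ne : 𝐀 ≠ ⊥ := fun e => h.p.W_ne (le_bot_iff.1 (h.WA.trans e.le))

theorem EN : E ≤ normalizer ((𝐀 : Subgroup G) : Set G) := le_sup_left.trans h.p.nQ

theorem cjD {n : G} (hn : n ∈ normalizer (B : Set G)) :
    n •ᶜ 𝐃 = B ⊓ centralizer ((n •ᶜ E : Subgroup G) : Set G) := by
  rw [cj_inf, cj_centralizer, cj_eq_of_mem_normalizer hn]

theorem card_F0 : Nat.card (𝐃 : Subgroup G) * Nat.card F = Nat.card h.p.hs.F0 := by
  rw [← h.p.hs.idxD, card_mul_relIndex_of_le h.p.hs.D_le]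

theorem card_A : Nat.card h.p.hs.F0 * Nat.card F = Nat.card (𝐀 : Subgroup G) := by
  rw [← h.p.hs.idxF, card_mul_relIndex_of_le (h.inf_eq.ge.trans inf_le_left)]

theorem card_A' : Nat.card h.p.hs.F0 * Nat.card F = Nat.card (𝐀' : Subgroup G) := by
  rw [← h.p.hs.symm.idxF, h.p.hs.symm_F0, card_mul_relIndex_of_le (h.inf_eq.ge.trans inf_le_right)]

theorem card_B : Nat.card (𝐀 : Subgroup G) * Nat.card F = Nat.card B := by
  rw [← h.p.hs.idxQ, ← inf_relIndex_left, card_mul_relIndex_of_le inf_le_left]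

theorem card_D : Nat.card (𝐃 : Subgroup G) ≤ Nat.card F :=
  h.card_eq ▸ Nat.card_le_card_of_injective (fun a : (𝐃 : Subgroup G) => z' a) fun a b e =>
    have ha := h.p.hs.D_le a.2
    have hb := h.p.hs.D_le b.2
    Subtype.ext (h.ext ha hb (((h.p.hs.z0 ha).2 a.2).trans ((h.p.hs.z0 hb).2 b.2).symm) e)

theorem D_ne (hD : 𝐃' ≠ ⊥) : 𝐃 ≠ ⊥ := fun e => hD (by
  have e1 := card_mul_relIndex_of_le h.p'.hs.D_le
  rw [h.p'.hs.idxD, h.F0', ← h.card_F0, h.card_eq, e, card_bot] at e1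
  exact card_eq_one.1 (Nat.eq_of_mul_eq_mul_right Nat.card_pos e1))

end DP

end CL.Hen
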