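import Mathlib
import Cfsg.Agent.S2930
import Cfsg.Agent.PERM.SymIndex

/-!
An explicit outer automorphism of order two of the symmetric group of degree six, and the order of the
automorphism group of the alternating group of degree six.
-/

set_option autoImplicit false
open Equiv Equiv.Perm Subgroup

namespace CL.Hen.A6

abbrev S6 := Perm (Fin 6)
abbrev A6 := alternatingGroup (Fin 6)

/-- the six one-factorizations of the complete graph on six points -/
def col : Fin 6 → Fin 6 → Fin 6 → Fin 6 :=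
  ![![![0, 1, 2, 3, 4, 5], ![1, 0, 3, 4, 5, 2], ![2, 3, 0, 5, 1, 4], ![3, 4, 5, 0, 2, 1],
      ![4, 5, 1, 2, 0, 3], ![5, 2, 4, 1, 3, 0]],
    ![![0, 1, 2, 3, 4, 5], ![1, 0, 3, 5, 2, 4], ![2, 3, 0, 4, 5, 1], ![3, 5, 4, 0, 1, 2],
      ![4, 2, 5, 1, 0, 3], ![5, 4, 1, 2, 3, 0]],
    ![![0, 1, 2, 3, 4, 5], ![1, 0, 4, 2, 5, 3], ![2, 4, 0, 5, 3, 1], ![3, 2, 5, 0, 1, 4],
      ![4, 5, 3, 1, 0, 2], ![5, 3, 1, 4, 2, 0]],
    ![![0, 1, 2, 3, 4, 5], ![1, 0, 5, 2, 3, 4], ![2, 5, 0, 4, 1, 3], ![3, 2, 4, 0, 5, 1],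
      ![4, 3, 1, 5, 0, 2], ![5, 4, 3, 1, 2, 0]],
    ![![0, 1, 2, 3, 4, 5], ![1, 0, 5, 4, 2, 3], ![2, 5, 0, 1, 3, 4], ![3, 4, 1, 0, 5, 2],
      ![4, 2, 3, 5, 0, 1], ![5, 3, 4, 2, 1, 0]],
    ![![0, 1, 2, 3, 4, 5], ![1, 0, 4, 5, 3, 2], ![2, 4, 0, 1, 5, 3], ![3, 5, 1, 0, 2, 4],
      ![4, 3, 5, 2, 0, 1], ![5, 2, 3, 4, 1, 0]]]

/-- `g` permutes the factorizations as `h` -/
def Rl (g h : S6) : Prop :=
  ∀ i x y u v, col i x y = col i u v ↔ col (h i) (g x) (g y) = col (h i) (g u) (g v)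

instance (g h : S6) : Decidable (Rl g h) := by unfold Rl; infer_instance

theorem Rl.mul {g h g' h' : S6} (a : Rl g h) (b : Rl g' h') : Rl (g * g') (h * h') :=
  fun i x y u v => (b i x y u v).trans (a _ _ _ _ _)

theorem col_inj : ∀ i j, (∀ x y u v, col i x y = col i u v ↔ col j x y = col j u v) → i = j := by
  decide +kernel

theorem Rl.unique {g h h' : S6} (a : Rl g h) (b : Rl g h') : h = h' := by
  ext1 i
  refine col_inj _ _ fun x y u v => ?_
  have h1 := a i (g⁻¹ x) (g⁻¹ y) (g⁻¹ u) (g⁻¹ v)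
  have h2 := b i (g⁻¹ x) (g⁻¹ y) (g⁻¹ u) (g⁻¹ v)
  simp only [Perm.coe_inv, apply_symm_apply] at h1 h2
  exact h1.symm.trans h2

/-- the images of the adjacent transpositions -/
def yy : Fin 5 → S6 :=
  ![swap 0 3 * swap 1 2 * swap 4 5, swap 0 1 * swap 2 5 * swap 3 4, swap 0 2 * swap 1 3 * swap 4 5,
    swap 0 5 * swap 1 2 * swap 3 4, swap 0 1 * swap 2 3 * swap 4 5]

theorem rl_gen : ∀ i : Fin 5, Rl (swap i.castSucc i.succ) (yy i) ∧ Rl (yy i) (swap i.castSucc i.succ) := by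
  decide +kernel

theorem exists_rl (g : S6) : ∃ h, Rl g h ∧ Rl h g := by
  have hg : g ∈ Submonoid.closure (Set.range fun i : Fin 5 => swap i.castSucc i.succ) := by
    rw [mclosure_swap_castSucc_succ]; trivial
  induction hg using Submonoid.closure_induction with
  | mem _ h => obtain ⟨i, rfl⟩ := h; exact ⟨_, rl_gen i⟩
  | one => exact ⟨1, fun _ _ _ _ _ => Iff.rfl, fun _ _ _ _ _ => Iff.rfl⟩
  | mul _ _ _ _ h h' =>
    obtain ⟨_, h1, h2⟩ := h
    obtain ⟨_, h3, h4⟩ := h'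
    exact ⟨_, h1.mul h3, h2.mul h4⟩

noncomputable def sf (g : S6) : S6 := (exists_rl g).choose

theorem rl_sf (g : S6) : Rl g (sf g) := (exists_rl g).choose_spec.1

theorem sf_sf (g : S6) : sf (sf g) = g := (rl_sf _).unique (exists_rl g).choose_spec.2

/-- the outer automorphism -/
noncomputable def σ : S6 ≃* S6 where
  toFun := sf
  invFun := sf
  left_inv := sf_sf
  right_inv := sf_sf
  map_mul' g h := (rl_sf _).unique ((rl_sf g).mul (rl_sf h))

theorem σσ (g : S6) : σ (σ g) = g := sf_sf g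

theorem σ_eq {g h : S6} (a : Rl g h) : σ g = h := (rl_sf g).unique a

/-- the restriction to the alternating group -/
noncomputable def s : MulAut A6 where
  toFun g := ⟨σ g.1, (CL.SymIdx.mem_alt_iff σ _).2 g.2⟩
  invFun g := ⟨σ g.1, (CL.SymIdx.mem_alt_iff σ _).2 g.2⟩
  left_inv g := Subtype.ext (σσ g.1)
  right_inv g := Subtype.ext (σσ g.1)
  map_mul' g h := Subtype.ext (map_mul σ g.1 h.1)

theorem s_coe (g : A6) : (s g).1 = σ g.1 := rfl

theorem ss : s * s = 1 := MulEquiv.ext fun g => Subtype.ext (σσ g.1)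

theorem s_inv : s⁻¹ = s := inv_eq_of_mul_eq_one_left ss

/-- conjugation by a permutation -/
abbrev c : S6 →* MulAut A6 := MulAut.conjNormal

theorem c_coe (g : S6) (x : A6) : (c g x).1 = g * x.1 * g⁻¹ := rfl

theorem c_inj : Function.Injective c := by
  rw [injective_iff_map_eq_one]
  intro g hg
  refine CL.KSG.eq_one_of_commute_alt (by simp) (fun x hx => ?_)
  have : g * x * g⁻¹ = x := congrArg (fun φ : MulAut A6 => (φ ⟨x, hx⟩).1) hg
  exact mul_inv_eq_iff_eq_mul.1 this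

theorem s_c (g : S6) : s * c g * s⁻¹ = c (σ g) := by
  rw [s_inv]
  refine MulEquiv.ext fun x => Subtype.ext ?_
  rw [MulAut.mul_apply, MulAut.mul_apply, s_coe, c_coe, s_coe, c_coe, map_mul, map_mul, σσ, map_inv]

theorem cj_c (φ : MulAut A6) (x : A6) : φ * c x.1 * φ⁻¹ = c (φ x).1 := by
  refine MulEquiv.ext fun y => ?_
  have h : ∀ u w : A6, c u.1 w = u * w * u⁻¹ := fun u w => rfl
  rw [MulAut.mul_apply, MulAut.mul_apply, h, h, map_mul, map_mul, map_inv]
  simp

/-- a three-cycle -/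
def r0 : A6 := ⟨swap 0 2 * swap 0 1, by rw [mem_alternatingGroup]; decide +kernel⟩

theorem r0_three : r0.1.IsThreeCycle := card_support_eq_three_iff.1 (by decide +kernel)

theorem σ_r0 : σ r0.1 = swap 0 4 * swap 0 2 * (swap 1 5 * swap 1 3) := σ_eq (by decide +kernel)

theorem s_r0 : ¬ (s r0).1.IsThreeCycle := fun h => by
  have := card_support_eq_three_iff.2 h
  rw [s_coe, σ_r0] at this
  revert this
  decide +kernel

theorem three_cj {x y : A6} (h : IsConj x y) (hx : x.1.IsThreeCycle) : y.1.IsThreeCycle :=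
  (isConj_iff_cycleType_eq.1 (A6.subtype.map_isConj h)).symm.trans hx

theorem mem_range {φ : MulAut A6} (h : (φ r0).1.IsThreeCycle) : φ ∈ c.range := by
  obtain ⟨g, hg⟩ := CL.KSG.exists_perm_of_map_threeCycles (by simp) (A6.subtype.comp φ.toMonoidHom)
    (subtype_injective _ |>.comp φ.injective) fun g hg =>
      three_cj (φ.toMonoidHom.map_isConj (alternatingGroup.isThreeCycle_isConj (by simp) r0_three hg)) h
  exact ⟨g, MulEquiv.ext fun x => Subtype.ext (hg x).symm⟩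

theorem s_notMem : s ∉ c.range := by
  rintro ⟨g, hg⟩
  refine s_r0 ?_
  rw [← hg, c_coe]
  exact (cycleType_conj (σ := r0.1) (τ := g)).trans r0_three

theorem mem_or (φ : MulAut A6) : φ ∈ c.range ∨ s * φ ∈ c.range := by
  by_cases h : (φ r0).1.IsThreeCycle
  · exact .inl (mem_range h)
  · have ho : orderOf r0 = 3 := by rw [← orderOf_coe, r0_three.orderOf]
    have h3 := Cfsg.Agent.S2930.isConj_of_not_three (by rw [MulEquiv.orderOf_eq, ho])
      (by rw [MulEquiv.orderOf_eq, ho]) s_r0 h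
    have h4 : IsConj (s (s r0)) (s (φ r0)) := s.toMonoidHom.map_isConj h3
    have h5 : s (s r0) = r0 := Subtype.ext (σσ _)
    rw [h5] at h4
    exact .inr (mem_range (three_cj h4 r0_three))

theorem index_range : c.range.index = 2 := by
  rw [index_eq_two_iff']
  refine ⟨s, fun φ => ?_⟩
  by_cases h : φ ∈ c.range
  · exact .inr ⟨h, fun h' => s_notMem (by simpa using mul_mem h' (inv_mem h))⟩
  · exact .inl ⟨(mem_or φ).resolve_left h, h⟩

theorem card_aut : Nat.card (MulAut A6) = 1440 := by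
  rw [← c.range.card_mul_index, index_range, ← Nat.card_congr (MonoidHom.ofInjective c_inj).toEquiv,
    Nat.card_perm]
  simp [Nat.factorial]

end CL.Hen.A6
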