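import Mathlib
import Cfsg.Agent.SPOR.KComp

/-!
The holomorph of the cyclic group of order eight as a table on the numbers below 32: `i + 8 j + 16 k` stands for
`c ^ i a ^ j d ^ k`.  Subsets are bit masks.
-/

set_option autoImplicit false
set_option maxRecDepth 100000

namespace CL.Hen.P32
open CL.K

def mu (n m : ℕ) : ℕ :=
  Nat.add (Nat.mod (Nat.add n (Nat.mul (Nat.add 1 (Nat.mul 6 (Nat.div n 8))) m)) 8)
    (Nat.mul 8 (Nat.mod (Nat.xor (Nat.div n 8) (Nat.div m 8)) 4))
def tb (m a : ℕ) : Bool := Nat.beq (Nat.land (Nat.shiftRight m a) 1) 1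
def fl (T a : ℕ) : ℕ := Nat.land (Nat.shiftRight T (Nat.mul 5 a)) 31
def iv (a : ℕ) : ℕ := fl 1277114887739271877715725309934716734134735247584 a
noncomputable def pw (x k : ℕ) : ℕ := Nat.rec (motive := fun _ => ℕ) 0 (fun _ ih => mu ih x) k
noncomputable def it (τ : ℕ → ℕ) (k n : ℕ) : ℕ := Nat.rec (motive := fun _ => ℕ) n (fun _ ih => τ ih) k
noncomputable def ev (x y w e : ℕ) : ℕ :=
  mu (mu (pw x (Nat.mod e 8)) (pw y (Nat.mod (Nat.div e 8) 2))) (pw w (Nat.div e 16))
noncomputable def imp (p q : Bool) : Bool := Bool.rec (motive := fun _ => Bool) true q p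
noncomputable def alm (m : ℕ) (p : ℕ → Bool) : Bool := allLt (fun a => imp (tb m a) (p a)) 32
noncomputable def tabl (τ : ℕ → ℕ) : ℕ :=
  Nat.rec (motive := fun _ => ℕ) 0 (fun n ih => Nat.lor ih (Nat.shiftLeft (τ n) (Nat.mul 5 n))) 32

/-- `a < 32` is in the mask `m` -/
def In (m a : ℕ) : Prop := a < 32 ∧ tb m a = true

theorem mu_lt (n m : ℕ) : mu n m < 32 := by
  have h1 : Nat.mod (Nat.add n (Nat.mul (Nat.add 1 (Nat.mul 6 (Nat.div n 8))) m)) 8 < 8 := Nat.mod_lt _ (by norm_num)
  have h2 : Nat.mod (Nat.xor (Nat.div n 8) (Nat.div m 8)) 4 < 4 := Nat.mod_lt _ (by norm_num)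
  show _ + 8 * _ < 32
  omega
theorem fl_lt (T a : ℕ) : fl T a < 32 := Nat.lt_succ_of_le Nat.and_le_right
theorem pw_zero (x : ℕ) : pw x 0 = 0 := rfl
theorem pw_succ (x k : ℕ) : pw x (k + 1) = mu (pw x k) x := rfl
theorem pw_lt (x k : ℕ) : pw x k < 32 := by
  cases k
  · exact (by norm_num : 0 < 32)
  · exact mu_lt _ _
theorem it_zero (τ : ℕ → ℕ) (n : ℕ) : it τ 0 n = n := rfl
theorem it_succ (τ : ℕ → ℕ) (k n : ℕ) : it τ (k + 1) n = τ (it τ k n) := rfl
theorem imp_iff {p q : Bool} : imp p q = true ↔ (p = true → q = true) := by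
  cases p <;> simp [imp]
theorem alm_iff {m : ℕ} {p : ℕ → Bool} : alm m p = true ↔ ∀ a, In m a → p a = true := by
  simp only [alm, allLt_iff, imp_iff, In, and_imp]

/-- all subgroups -/
def L : List ℕ := [1, 17, 85, 255, 257, 513, 1025, 2049, 4097, 4369, 8193, 8721, 16385, 17425, 21845, 32769, 34833, 43605,
  65535, 65537, 1048577, 1114129, 4456465, 5570645, 11141205, 16711935, 16777217, 16843009, 17829889, 67108865, 67175425,
  68173825, 268435457, 268505089, 269484289, 285212689, 286331153, 289686545, 570425361, 571548177, 574916625, 1073741825,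
  1073823745, 1074791425, 1140850705, 1141982225, 1145311505, 1426063445, 1431655765, 1437248085, 2281701393, 2282850321,
  2286166545, 2852126805, 2857740885, 2863289685, 4278190335, 4294967295]
def mA : ℕ := 286331153
def mA' : ℕ := 1141982225
def mQ : ℕ := 2857740885
def mB : ℕ := 1431655765
def lgA : ℕ := 34844936969610450635967700161497718272819200
def fT : ℕ := 27875968716577584538312384378577339979661312
def bT : ℕ := 33451155016205169721295405640819461966528512
/-- the other self-centralizing subgroups with generators and logarithm tables -/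
def T : List (ℕ × ℕ × ℕ × ℕ × ℕ) := [(255, 1, 0, 0, 247132686368), (5570645, 2, 0, 16, 24686248853168020330045541525226496),
  (11141205, 17, 0, 0, 124818226038126805941821097560250368),
  (2286166545, 18, 0, 9, 776423572398762421241932552131660756003149840384),
  (574916625, 18, 0, 11, 847429040648087610255113335388450658097037312), (65535, 1, 0, 8, 895686975614301033826336),
  (16711935, 1, 0, 16, 984818244535170821984609444825237536),
  (4278190335, 1, 0, 24, 1082819111112368486962517585774158318164982728736),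
  (1431655765, 2, 8, 18, 34291612555085804149926935626341486660341990400),
  (2863289685, 17, 0, 8, 868704230978074957031251188706933805515320334336),
  (1437248085, 17, 0, 9, 24289721525340456580894238711723087661996447744),
  (4294967295, 1, 17, 25, 1035673897016195621361408752219010277497601361952)]

def qq (m x n : ℕ) : Bool := tb m n || tb m (mu n x)

theorem grow : L.all (fun m => allLt (fun x => imp (allLt (fun n => imp (qq m x n) (qq m x (mu x n))) 32)
    (L.any fun m' => allLt (fun n => tb m' n == qq m x n) 32)) 32) = true := by decide +kernel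

theorem selfc : L.all (fun m => imp (allLt (fun x => imp (alm m fun n => Nat.beq (mu x n) (mu n x)) (tb m x)) 32)
    (Nat.beq m mA || Nat.beq m mA' || Nat.beq m mQ || T.any fun t => Nat.beq m t.1)) = true := by decide +kernel

theorem elem : L.all (fun m => imp (alm m fun n => Nat.beq (mu n n) 0)
    (Nat.beq m mA || Nat.beq m mA' || Nat.blt ((List.range 32).filter (tb m)).length 8)) = true := by decide +kernel

/-- same order -/
noncomputable def so (y g : ℕ) : Bool :=
  (Nat.beq y 0 == Nat.beq g 0) && (Nat.beq (pw y 2) 0 == Nat.beq (pw g 2) 0) && (Nat.beq (pw y 4) 0 == Nat.beq (pw g 4) 0)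

noncomputable def val (m g₁ g₂ g₃ : ℕ) (τ : ℕ → ℕ) : Bool :=
  alm m fun n => imp (Nat.beq (τ n) 0) (Nat.beq n 0) && Nat.beq (τ (mu n g₁)) (mu (τ n) (τ g₁)) &&
    Nat.beq (τ (mu n g₂)) (mu (τ n) (τ g₂)) && Nat.beq (τ (mu n g₃)) (mu (τ n) (τ g₃))

/-- `C` holds for all automorphisms of the subgroup with mask `m` -/
noncomputable def chk (m g₁ g₂ g₃ lg : ℕ) (C : (ℕ → ℕ) → Bool) : Bool :=
  tb m g₁ && tb m g₂ && tb m g₃ && Nat.blt g₁ 32 && Nat.blt g₂ 32 && Nat.blt g₃ 32 &&
  alm m (fun n => Nat.beq (ev g₁ g₂ g₃ (fl lg n)) n) &&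
  alm m fun x => imp (so x g₁) (alm m fun y => imp (so y g₂) (alm m fun w => imp (so w g₃)
    (force (tabl fun n => ev x y w (fl lg n)) fun U =>
      alm m (fun n => Nat.beq (fl U n) (ev x y w (fl lg n))) && imp (val m g₁ g₂ g₃ (fl U)) (C (fl U)))))

theorem two : T.all (fun t => chk t.1 t.2.1 t.2.2.1 t.2.2.2.1 t.2.2.2.2
    fun τ => alm t.1 fun n => Nat.beq (it τ 8 n) n) = true := by decide +kernel

/-- agreement on the generators of `A` -/
def eqA (σ τ : ℕ → ℕ) : Bool := Nat.beq (σ 8) (τ 8) && Nat.beq (σ 4) (τ 4) && Nat.beq (σ 16) (τ 16)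

/-- an involution commuting with `β`, different from `β` -/
noncomputable def good (γ : ℕ → ℕ) : Bool :=
  force (tabl γ) fun U => alm mA (fun n => Nat.beq (fl U n) (γ n)) && !eqA (fl U) id && !eqA (fl U) (fl bT) &&
    eqA (fun n => fl U (fl U n)) id && eqA (fun n => fl U (fl bT n)) (fun n => fl bT (fl U n))

noncomputable def wd (τ : ℕ → ℕ) (i j k n : ℕ) : ℕ :=
  it (fl fT) j (τ (it (fl fT) i (fl bT (it (fl fT) (2 * i) (it τ k (it (fl fT) (2 * j) n))))))

noncomputable def CA (τ : ℕ → ℕ) : Bool :=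
  eqA τ (fl fT) || eqA τ (it (fl fT) 2) || eqA (it τ 4) id ||
    anyLt (fun i => anyLt (fun j => anyLt (fun k => good (wd τ i j (4 * k + 2)) ||
      good (it (fun n => fl bT (wd τ i j (4 * k + 2) n)) 2)) 2) 3) 3

theorem autA : chk mA 8 4 16 lgA CA = true := by decide +kernel

end CL.Hen.P32
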